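import Mathlib
import Cfsg.Prelude.Def_Transfer
import Cfsg.Prelude.Def_CaseTheorems
import Cfsg.Agent.Lib.Basic.Frattini
import Cfsg.Agent.Lib.Basic.Extra2

/-!
# The two types of extraspecial 2-groups exist

Twisted products `(V × F₂)` for a biadditive form on `V = (F₂²)ⁿ`, with local factors of hyperbolic or elliptic type.
-/

set_option autoImplicit false
set_option linter.style.haveILetI false
set_option linter.unusedSimpArgs false

namespace Cfsg.Agent.Lib.ThreeTrans.ES2

open Cfsg
open scoped commutatorElement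

/-- The plane. -/
abbrev P := ZMod 2 × ZMod 2

/-- The two local forms. -/
def c : Bool → P → P → ZMod 2
  | false, x, y => x.1 * y.2
  | true, x, y => x.1 * y.2 + x.1 * y.1 + x.2 * y.2

theorem c_add_l : ∀ (t : Bool) (x y z : P), c t (x + y) z = c t x z + c t y z := by decide
theorem c_add_r : ∀ (t : Bool) (x y z : P), c t x (y + z) = c t x y + c t x z := by decide
theorem c_nondeg : ∀ (t : Bool) (x : P), x ≠ 0 → ∃ y, c t x y + c t y x ≠ 0 := by decide
theorem c_zero_r : ∀ (t : Bool) (x : P), c t x 0 = 0 := by decide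
theorem c_zero_l : ∀ (t : Bool) (x : P), c t 0 x = 0 := by decide
theorem neg_P : ∀ x : P, -x = x := by decide
theorem add_self_P : ∀ x : P, x + x = 0 := by decide
theorem z2_cases : ∀ a : ZMod 2, a = 0 ∨ a = 1 := by decide
theorem z2_add_self : ∀ a : ZMod 2, a + a = 0 := by decide

variable {n : ℕ} (s : Fin n → Bool)

/-- The form. -/
def beta (v w : Fin n → P) : ZMod 2 := ∑ i, c (s i) (v i) (w i)

theorem beta_add_l (u v w : Fin n → P) : beta s (u + v) w = beta s u w + beta s v w := by
  simp only [beta, Pi.add_apply, c_add_l, Finset.sum_add_distrib]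

theorem beta_add_r (u v w : Fin n → P) : beta s u (v + w) = beta s u v + beta s u w := by
  simp only [beta, Pi.add_apply, c_add_r, Finset.sum_add_distrib]

theorem beta_zero_l (w : Fin n → P) : beta s 0 w = 0 := by
  simp only [beta, Pi.zero_apply, c_zero_l, Finset.sum_const_zero]

theorem beta_zero_r (w : Fin n → P) : beta s w 0 = 0 := by
  simp only [beta, Pi.zero_apply, c_zero_r, Finset.sum_const_zero]

theorem beta_nondeg {v : Fin n → P} (hv : v ≠ 0) : ∃ w, beta s v w + beta s w v ≠ 0 := by
  classical
  obtain ⟨i, hi⟩ := Function.ne_iff.1 hv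
  obtain ⟨y, hy⟩ := c_nondeg (s i) (v i) hi
  refine ⟨Pi.single i y, ?_⟩
  have h1 : beta s v (Pi.single i y) = c (s i) (v i) y := by
    unfold beta
    rw [Finset.sum_eq_single i]
    · rw [Pi.single_eq_same]
    · intro j _ hj
      rw [Pi.single_eq_of_ne hj, c_zero_r]
    · intro h; exact absurd (Finset.mem_univ i) h
  have h2 : beta s (Pi.single i y) v = c (s i) y (v i) := by
    unfold beta
    rw [Finset.sum_eq_single i]
    · rw [Pi.single_eq_same]
    · intro j _ hj
      rw [Pi.single_eq_of_ne hj, c_zero_l]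
    · intro h; exact absurd (Finset.mem_univ i) h
  rw [h1, h2]
  exact hy

/-- The twisted product. -/
@[ext] structure TE (s : Fin n → Bool) where
  v : Fin n → P
  a : ZMod 2

instance : Mul (TE s) := ⟨fun x y => ⟨x.v + y.v, x.a + y.a + beta s x.v y.v⟩⟩
instance : One (TE s) := ⟨⟨0, 0⟩⟩
instance : Inv (TE s) := ⟨fun x => ⟨x.v, x.a + beta s x.v x.v⟩⟩

theorem mul_v (x y : TE s) : (x * y).v = x.v + y.v := rfl
theorem mul_a (x y : TE s) : (x * y).a = x.a + y.a + beta s x.v y.v := rfl
theorem one_v : (1 : TE s).v = 0 := rfl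
theorem one_a : (1 : TE s).a = 0 := rfl

instance : Group (TE s) := Group.ofLeftAxioms
  (by
    intro x y z
    apply TE.ext
    · simp only [mul_v, add_assoc]
    · simp only [mul_a, mul_v, beta_add_l, beta_add_r]
      ring)
  (by
    intro x
    apply TE.ext
    · simp only [mul_v, one_v, zero_add]
    · simp only [mul_a, one_v, one_a, beta_zero_l, zero_add, add_zero])
  (by
    intro x
    apply TE.ext
    · show x.v + x.v = 0
      funext i
      exact add_self_P _
    · show x.a + beta s x.v x.v + x.a + beta s x.v x.v = 0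
      have h : ∀ a b : ZMod 2, a + b + a + b = 0 := by decide
      exact h _ _)

/-- As a product. -/
def TE.equivProd : TE s ≃ (Fin n → P) × ZMod 2 where
  toFun x := (x.v, x.a)
  invFun x := ⟨x.1, x.2⟩
  left_inv _ := rfl
  right_inv _ := rfl

instance : Finite (TE s) := Finite.of_equiv _ (TE.equivProd s).symm

theorem card_TE : Nat.card (TE s) = 2 ^ (2 * n + 1) := by
  rw [Nat.card_congr (TE.equivProd s), Nat.card_prod, Nat.card_fun, Nat.card_prod, Nat.card_zmod, Nat.card_eq_fintype_card,
    Fintype.card_fin]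
  rw [pow_succ, pow_mul]
  norm_num

/-- The central element. -/
def zz : TE s := ⟨0, 1⟩

theorem zz_mul (x : TE s) : zz s * x = ⟨x.v, x.a + 1⟩ := by
  apply TE.ext
  · show (0 : Fin n → P) + x.v = x.v
    rw [zero_add]
  · show (1 : ZMod 2) + x.a + beta s 0 x.v = x.a + 1
    rw [beta_zero_l, add_zero, add_comm]

theorem mul_comm_or (x y : TE s) : x * y = y * x ∨ x * y = zz s * (y * x) := by
  have hv : x.v + y.v = y.v + x.v := add_comm _ _
  have key : ∀ a b p q : ZMod 2, a + b + p = b + a + q ∨ a + b + p = b + a + q + 1 := by decide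
  rcases key x.a y.a (beta s x.v y.v) (beta s y.v x.v) with h | h
  · left
    exact TE.ext hv h
  · right
    rw [zz_mul]
    exact TE.ext hv h

theorem central_cases (hr : TE s) (h : ∀ t : TE s, t * hr = hr * t) : hr = 1 ∨ hr = zz s := by
  have hv : hr.v = 0 := by
    by_contra hne
    obtain ⟨w, hw⟩ := beta_nondeg s hne
    have h1 := congrArg TE.a (h ⟨w, 0⟩)
    have h2 : (0 : ZMod 2) + hr.a + beta s w hr.v = hr.a + 0 + beta s hr.v w := h1
    apply hw
    have key : ∀ a b c : ZMod 2, 0 + a + b = a + 0 + c → c + b = 0 := by decide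
    exact key _ _ _ h2
  rcases z2_cases hr.a with ha | ha
  · left
    exact TE.ext hv ha
  · right
    exact TE.ext hv ha

theorem sq_cases (x : TE s) : x * x = 1 ∨ x * x = zz s := by
  have hv : x.v + x.v = 0 := by
    funext i
    exact add_self_P _
  have key : ∀ a b : ZMod 2, a + a + b = 0 ∨ a + a + b = 1 := by decide
  rcases key x.a (beta s x.v x.v) with h | h
  · left
    exact TE.ext hv h
  · right
    exact TE.ext hv h

theorem zz_central (x : TE s) : x * zz s = zz s * x := by
  apply TE.ext
  · show x.v + 0 = 0 + x.v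
    rw [add_zero, zero_add]
  · show x.a + 1 + beta s x.v 0 = 1 + x.a + beta s 0 x.v
    rw [beta_zero_l, beta_zero_r]
    have h : ∀ a : ZMod 2, a + 1 + 0 = 1 + a + 0 := by decide
    exact h _

theorem zz_ne : zz s ≠ 1 := by
  intro h
  have h2 : (1 : ZMod 2) = 0 := congrArg TE.a h
  exact absurd h2 (by decide)

theorem zz_sq : zz s * zz s = 1 := by
  apply TE.ext
  · show (0 : Fin n → P) + 0 = 0
    rw [add_zero]
  · show (1 : ZMod 2) + 1 + beta s 0 0 = 0
    rw [beta_zero_l]
    decide

theorem exists_noncomm (hn : 1 ≤ n) : ∃ a b : TE s, a * b ≠ b * a := by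
  by_contra hcon
  push Not at hcon
  let r : TE s := ⟨fun _ => (1, 0), 0⟩
  rcases central_cases s r (fun t => hcon t r) with h | h
  · have h1 : (((1 : ZMod 2), (0 : ZMod 2)) : P) = (0 : P) := congrFun (congrArg TE.v h) ⟨0, hn⟩
    exact absurd h1 (by decide)
  · have h1 : (((1 : ZMod 2), (0 : ZMod 2)) : P) = (0 : P) := congrFun (congrArg TE.v h) ⟨0, hn⟩
    exact absurd h1 (by decide)

theorem isExtraspecial_TE (hn : 1 ≤ n) : IsExtraspecial 2 (TE s) := by
  haveI : Fact (Nat.Prime 2) := ⟨Nat.prime_two⟩
  classical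
  have hcent : ∀ t : TE s, t ∈ Subgroup.center (TE s) ↔ t = 1 ∨ t = zz s := by
    intro t
    rw [Subgroup.mem_center_iff]
    constructor
    · intro h
      exact central_cases s t h
    · rintro (rfl | rfl) g
      · simp
      · exact zz_central s g
  have hp : IsPGroup 2 (TE s) := IsPGroup.of_card (card_TE s)
  have hz_center : zz s ∈ Subgroup.center (TE s) := (hcent _).mpr (Or.inr rfl)
  have hcomm : commutator (TE s) = Subgroup.center (TE s) := by
    apply le_antisymm
    · rw [_root_.commutator_def, Subgroup.commutator_le]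
      intro a _ b _
      rcases mul_comm_or s a b with e | e
      · have : ⁅a, b⁆ = 1 := by
          rw [commutatorElement_def, e]
          group
        rw [this]
        exact Subgroup.one_mem _
      · have : ⁅a, b⁆ = zz s := by
          rw [commutatorElement_def, e]
          group
        rw [this]
        exact hz_center
    · intro t ht
      rcases (hcent t).mp ht with rfl | rfl
      · exact Subgroup.one_mem _
      · obtain ⟨a, b, hab⟩ := exists_noncomm s hn
        rcases mul_comm_or s a b with e | e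
        · exact absurd e hab
        · have : ⁅a, b⁆ = zz s := by
            rw [commutatorElement_def, e]
            group
          rw [← this]
          exact Subgroup.commutator_mem_commutator (Subgroup.mem_top _) (Subgroup.mem_top _)
  have hfr : frattini (TE s) = Subgroup.center (TE s) := by
    apply le_antisymm
    · refine Cfsg.Agent.Lib.Basic.frattini_le_of_commutator_le_of_pow_mem Nat.prime_two _ hcomm.le fun t => ?_
      rw [pow_two]
      rcases sq_cases s t with e | e
      · rw [e]
        exact Subgroup.one_mem _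
      · rw [e]
        exact hz_center
    · rw [← hcomm]
      haveI : Group.IsNilpotent (TE s) := hp.isNilpotent
      exact Cfsg.Agent.Lib.Basic.commutator_le_frattini_of_isNilpotent
  refine ⟨⟨hp, hfr, hcomm⟩, ?_⟩
  rw [Nat.card_eq_two_iff]
  refine ⟨1, ⟨zz s, hz_center⟩, ?_, ?_⟩
  · intro e
    exact zz_ne s (congrArg Subtype.val e).symm
  · ext t
    simp only [Set.mem_insert_iff, Set.mem_singleton_iff, Set.mem_univ, iff_true]
    rcases (hcent t.1).mp t.2 with e | e
    · exact Or.inl (Subtype.ext e)
    · exact Or.inr (Subtype.ext e)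

/-! ### The count -/

/-- The sign of an element of the field with two elements. -/
def chi (a : ZMod 2) : ℤ := if a = 0 then 1 else -1

theorem chi_add : ∀ a b : ZMod 2, chi (a + b) = chi a * chi b := by decide

theorem chi_sum {ι : Type*} (S : Finset ι) (f : ι → ZMod 2) : chi (∑ i ∈ S, f i) = ∏ i ∈ S, chi (f i) := by
  classical
  induction S using Finset.induction_on with
  | empty => simp [chi]
  | insert a S ha ih => rw [Finset.sum_insert ha, Finset.prod_insert ha, chi_add, ih]

/-- The local sums. -/
def kappa (t : Bool) : ℤ := ∑ x : P, chi (c t x x)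

theorem kappa_false : kappa false = 2 := by decide +kernel
theorem kappa_true : kappa true = -2 := by decide +kernel

theorem sum_chi : ∑ v : Fin n → P, chi (beta s v v) = ∏ i, kappa (s i) := by
  classical
  unfold kappa
  rw [Finset.prod_univ_sum, Fintype.piFinset_univ]
  apply Finset.sum_congr rfl
  intro v _
  unfold beta
  rw [chi_sum]

/-- The number of square roots of 1. -/
theorem count_eq : (Nat.card {x : TE s // x ^ 2 = 1} : ℤ) = (∏ i, kappa (s i)) + 2 ^ (2 * n) := by
  classical
  rw [← sum_chi]
  -- the equivalence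
  have e : {x : TE s // x ^ 2 = 1} ≃ {v : Fin n → P // beta s v v = 0} × ZMod 2 :=
    { toFun := fun x => (⟨x.1.v, by
        have h := congrArg TE.a x.2
        rw [pow_two] at h
        have h' : x.1.a + x.1.a + beta s x.1.v x.1.v = 0 := h
        rwa [z2_add_self, zero_add] at h'⟩, x.1.a)
      invFun := fun y => ⟨⟨y.1.1, y.2⟩, by
        rw [pow_two]
        apply TE.ext
        · funext i
          exact add_self_P _
        · show y.2 + y.2 + beta s y.1.1 y.1.1 = 0
          rw [y.1.2, z2_add_self, add_zero]⟩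
      left_inv := fun x => rfl
      right_inv := fun y => rfl }
  rw [Nat.card_congr e, Nat.card_prod, Nat.card_zmod, Nat.card_eq_fintype_card, Fintype.card_subtype]
  have h1 : ∀ v : Fin n → P, chi (beta s v v) = 2 * (if beta s v v = 0 then 1 else 0) - 1 := by
    intro v
    rcases z2_cases (beta s v v) with h | h <;> rw [h] <;> decide
  have h2 : ∑ v : Fin n → P, chi (beta s v v) =
      2 * ((Finset.univ.filter fun v : Fin n → P => beta s v v = 0).card : ℤ) - 2 ^ (2 * n) := by
    simp only [h1]
    rw [Finset.sum_sub_distrib, ← Finset.mul_sum]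
    congr 1
    · congr 1
      rw [Finset.card_filter]
      push_cast
      rfl
    · simp only [Finset.sum_const, Finset.card_univ, Fintype.card_pi, Fintype.card_prod, ZMod.card, Finset.prod_const,
        Fintype.card_fin, smul_eq_mul, mul_one]
      rw [pow_mul]
      norm_num
  rw [h2]
  push_cast
  ring

/-- The rank from the count. -/
theorem rank_of_count {E : Type} [Group E] [Finite E] (hE : IsExtraspecial 2 E) (n : ℕ) (hn : 1 ≤ n)
    (hc : Nat.card E = 2 ^ (2 * n + 1)) :
    (2 ^ (2 * n) < Nat.card {x : E // x ^ 2 = 1} →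
      sSup {k : ℕ | ∃ A : Subgroup E, IsElementaryAbelian 2 A ∧ Nat.card A = 2 ^ k} = n + 1) ∧
    (Nat.card {x : E // x ^ 2 = 1} < 2 ^ (2 * n) →
      sSup {k : ℕ | ∃ A : Subgroup E, IsElementaryAbelian 2 A ∧ Nat.card A = 2 ^ k} = n) := by
  have hpos : 0 < 2 ^ n := by positivity
  have hcases := Cfsg.Agent.Lib.Basic.extraspecial2_rank_cases hE n hc
  -- a generic argument
  have gen : ∀ r : ℕ, 1 ≤ r + 1 → PRankLE 2 (r + 1) E → ¬ PRankLE 2 r E →
      sSup {k : ℕ | ∃ A : Subgroup E, IsElementaryAbelian 2 A ∧ Nat.card A = 2 ^ k} = r + 1 := by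
    intro r _ h1 h2
    apply IsGreatest.csSup_eq
    constructor
    · unfold PRankLE at h2
      push Not at h2
      obtain ⟨A, hA1, hA2, hA3⟩ := h2
      have hdvd : Nat.card A ∣ 2 ^ (2 * n + 1) := by
        rw [← hc]; exact Subgroup.card_subgroup_dvd_card A
      obtain ⟨j, -, hj⟩ := (Nat.dvd_prime_pow Nat.prime_two).1 hdvd
      have hle := h1 A hA1 hA2
      rw [hj] at hle hA3
      have h3 : j ≤ r + 1 := (Nat.pow_le_pow_iff_right (by norm_num)).1 hle
      have h4 : r < j := (Nat.pow_lt_pow_iff_right (by norm_num)).1 hA3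
      have h5 : j = r + 1 := by omega
      exact ⟨A, ⟨hA1, hA2⟩, by rw [hj, h5]⟩
    · rintro k ⟨A, ⟨hA1, hA2⟩, hA3⟩
      have hle := h1 A hA1 hA2
      rw [hA3] at hle
      exact (Nat.pow_le_pow_iff_right (by norm_num)).1 hle
  constructor
  · intro h
    rcases hcases with ⟨_, h2, h3⟩ | ⟨h1, _, _⟩
    · exact gen n (by omega) h2 h3
    · omega
  · intro h
    rcases hcases with ⟨h1, _, _⟩ | ⟨_, h2, h3⟩
    · omega
    · obtain ⟨m, rfl⟩ : ∃ m, n = m + 1 := ⟨n - 1, by omega⟩
      exact gen m (by omega) h2 h3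

/-- The hyperbolic choice. -/
theorem exists_plus (n : ℕ) (hn : 1 ≤ n) : ∃ (E : Type) (_ : Group E) (_ : Finite E), IsExtraspecial 2 E ∧
    Nat.card E = 2 ^ (2 * n + 1) ∧
      sSup {k : ℕ | ∃ A : Subgroup E, IsElementaryAbelian 2 A ∧ Nat.card A = 2 ^ k} = n + 1 := by
  let s : Fin n → Bool := fun _ => false
  refine ⟨TE s, inferInstance, inferInstance, isExtraspecial_TE s hn, card_TE s, ?_⟩
  apply (rank_of_count (isExtraspecial_TE s hn) n hn (card_TE s)).1
  have h := count_eq s
  have h2 : (0 : ℤ) < ∏ i, kappa (s i) := by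
    apply Finset.prod_pos
    intro i _
    show 0 < kappa false
    rw [kappa_false]; norm_num
  have : ((2 ^ (2 * n) : ℕ) : ℤ) < (Nat.card {x : TE s // x ^ 2 = 1} : ℤ) := by
    rw [h]; push_cast; linarith
  exact_mod_cast this

/-- The elliptic choice. -/
theorem exists_minus (n : ℕ) (hn : 1 ≤ n) : ∃ (E : Type) (_ : Group E) (_ : Finite E), IsExtraspecial 2 E ∧
    Nat.card E = 2 ^ (2 * n + 1) ∧
      sSup {k : ℕ | ∃ A : Subgroup E, IsElementaryAbelian 2 A ∧ Nat.card A = 2 ^ k} = n := by
  obtain ⟨m, rfl⟩ : ∃ m, n = m + 1 := ⟨n - 1, by omega⟩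
  let s : Fin (m + 1) → Bool := Fin.cases true (fun _ => false)
  refine ⟨TE s, inferInstance, inferInstance, isExtraspecial_TE s hn, card_TE s, ?_⟩
  apply (rank_of_count (isExtraspecial_TE s hn) (m + 1) hn (card_TE s)).2
  have h := count_eq s
  have h2 : ∏ i, kappa (s i) < (0 : ℤ) := by
    rw [Fin.prod_univ_succ]
    have h3 : (0 : ℤ) < ∏ i : Fin m, kappa (s i.succ) := by
      apply Finset.prod_pos
      intro i _
      show 0 < kappa false
      rw [kappa_false]; norm_num
    have h4 : kappa (s 0) = -2 := kappa_true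
    rw [h4]
    linarith
  have : (Nat.card {x : TE s // x ^ 2 = 1} : ℤ) < ((2 ^ (2 * (m + 1)) : ℕ) : ℤ) := by
    rw [h]; push_cast; linarith
  exact_mod_cast this

end Cfsg.Agent.Lib.ThreeTrans.ES2
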